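import Groth.Agent.CycLib28.LTensorCoh
import Groth.Agent.Dual22Lib.TenLocal
import Groth.Agent.DCat.PerfTensor
import Groth.Agent.DCat.SuppOpen
import Groth.Agent.Et18.ProperOver
import Groth.Agent.Coherent.ProperOverApps
import Groth.Agent.DQCoh.Bound

/-!
# Derived tensor product with a perfect complex: bounds and supports
-/

set_option autoImplicit false
set_option backward.isDefEq.respectTransparency false
set_option linter.style.haveILetI false

universe u

open CategoryTheory CategoryTheory.Limits AlgebraicGeometry HomologicalComplex ZeroObject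
open Groth.Agent.DCat Groth.Agent.DCat.PerfLocal

attribute [local instance] HasDerivedCategory.standard

namespace Groth.Agent.FM14

variable {X : Scheme.{u}}

theorem isZero_tot_X (P L : CochainComplex X.Modules ℤ) (n : ℤ)
    (h : ∀ p q : ℤ, p + q = n → IsZero (P.X p) ∨ IsZero (L.X q)) : IsZero ((tot (shT X) P L).X n) := by
  rw [IsZero.iff_id_eq_zero]
  refine mapBifunctor.hom_ext fun p q hpq => IsZero.eq_of_src ?_ _ _
  rcases h p q hpq with h' | h'
  · exact Functor.map_isZero ((shT X).flip.obj (L.X q)) h'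
  · exact Functor.map_isZero ((shT X).obj (P.X p)) h'

/-- Bound below of a derived tensor product with a strictly perfect complex. -/
theorem isGE_LTensorCx_strictlyPerfect (L : CochainComplex X.Modules ℤ) [DCoh.HasLTensorCx L] (k : ℤ)
    (hL : (DerivedCategory.Q.obj L).IsGE k) (P : CochainComplex X.Modules ℤ) (hP : DCoh.IsStrictlyPerfect P)
    (a : ℤ) (ha : ∀ i, i < a → IsZero (P.X i)) :
    ((DCoh.LTensorCx L).obj (DerivedCategory.Q.obj P)).IsGE (a + k) := by
  haveI := hL
  obtain ⟨L', hL', ⟨e⟩⟩ := DerivedCategory.exists_iso_Q_obj_of_isGE (DerivedCategory.Q.obj L) k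
  haveI := hL'
  haveI := LTensorSheaf.hasLTensorCx L'
  obtain ⟨t⟩ := TensorCongr.nonempty_congr (E := L) (E' := L') e
  haveI : (tot (shT X) P L').IsStrictlyGE (a + k) := (CochainComplex.isStrictlyGE_iff _ _).2 fun n hn =>
    isZero_tot_X P L' n fun p q hpq => by
      by_cases hp : p < a
      · exact Or.inl (ha p hp)
      · exact Or.inr (CochainComplex.isZero_of_isStrictlyGE L' k q (by omega))
  exact DerivedCategory.TStructure.t.isGE_of_iso
    ((LTensorSheaf.ltensorCxIso L' (PullPerf.isKFlatFor_of_strictlyPerfect hP)).symm ≪≫ (t.app _).symm) (a + k)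

theorem isZero_LTensorCx_right (L : CochainComplex X.Modules ℤ) [DCoh.HasLTensorCx L]
    (hL : IsZero (DerivedCategory.Q.obj L)) (E : DCoh.D X) : IsZero ((DCoh.LTensorCx L).obj E) := by
  let Z : CochainComplex X.Modules ℤ := (HomologicalComplex.single X.Modules (ComplexShape.up ℤ) 0).obj 0
  have hZ : ∀ i, IsZero (Z.X i) := fun i => by
    by_cases hi : i = 0
    · subst hi
      exact (isZero_zero _).of_iso (HomologicalComplex.singleObjXSelf (ComplexShape.up ℤ) 0 (0 : X.Modules))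
    · exact HomologicalComplex.isZero_single_obj_X _ _ _ _ hi
  haveI := LTensorSheaf.hasLTensorCx Z
  have hZ0 : IsZero Z := by
    rw [IsZero.iff_id_eq_zero]
    exact HomologicalComplex.hom_ext _ _ fun i => (hZ i).eq_of_src _ _
  obtain ⟨t⟩ := TensorCongr.nonempty_congr (E := L) (E' := Z) (hL.iso (DerivedCategory.Q.map_isZero hZ0))
  obtain ⟨N, hN, ⟨eN⟩⟩ := PullPerf.exists_kflat_rep E
  have hT : IsZero (tot (shT X) N Z) := by
    rw [IsZero.iff_id_eq_zero]
    exact HomologicalComplex.hom_ext _ _ fun i => (isZero_tot_X N Z i fun p q _ => Or.inr (hZ q)).eq_of_src _ _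
  exact (DerivedCategory.Q.map_isZero hT).of_iso
    (t.app E ≪≫ (DCoh.LTensorCx Z).mapIso eN.symm ≪≫ LTensorSheaf.ltensorCxIso Z hN)

theorem exists_isGE_LTensorCx [CompactSpace X] (F : CochainComplex X.Modules ℤ) [DCoh.HasLTensorCx F] (k : ℤ)
    [(DerivedCategory.Q.obj F).IsGE k] (E : DCoh.D X) (hE : DCoh.IsPerfect E) :
    ∃ n : ℤ, ((DCoh.LTensorCx F).obj E).IsGE n := by
  classical
  have hloc : ∀ x : X, ∃ (V : X.Opens) (n : ℤ), x ∈ V ∧
      ∀ i, i < n → IsZero ((Scheme.Modules.restrictFunctor V.ι).obj (DCoh.HD ((DCoh.LTensorCx F).obj E) i)) := fun x => by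
    obtain ⟨V, hx, hV⟩ := hE x
    obtain ⟨P, hP, ⟨eP⟩⟩ := hV _ ⟨DerivedCategory.Q.objObjPreimageIso E⟩
    obtain ⟨a, b, hab⟩ := hP.1
    haveI := PullPerf.preservesFiniteLimits_restrict V.ι
    let eE : (rd V.ι).obj E ≅ DerivedCategory.Q.obj P :=
      (rd V.ι).mapIso (DerivedCategory.Q.objObjPreimageIso E).symm ≪≫
        (Scheme.Modules.restrictFunctor V.ι).mapDerivedCategoryFactors.app _ ≪≫ eP
    obtain ⟨F', hF', ⟨eF⟩, h⟩ := Dual22Lib.TenLocal.nonempty_rd_LTensor V.ι F
    haveI := hF'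
    obtain ⟨t⟩ := h E
    have hge : (DerivedCategory.Q.obj F').IsGE k := by
      refine (DerivedCategory.isGE_iff _ _).2 fun i hi => IsZero.of_iso ?_
        ((DerivedCategory.homologyFunctor _ i).mapIso eF ≪≫
          SuppOpen.hdMapIso (Scheme.Modules.restrictFunctor V.ι) (DerivedCategory.Q.obj F) i)
      exact (Scheme.Modules.restrictFunctor V.ι).map_isZero (DerivedCategory.isZero_of_isGE _ k i hi)
    have h1 := isGE_LTensorCx_strictlyPerfect F' k hge P hP a fun i hi => hab i (Or.inl hi)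
    refine ⟨V, a + k, hx, fun i hi => ?_⟩
    haveI := h1
    exact (DerivedCategory.isZero_of_isGE ((DCoh.LTensorCx F').obj (DerivedCategory.Q.obj P)) (a + k) i hi).of_iso
      ((SuppOpen.hdMapIso (Scheme.Modules.restrictFunctor V.ι) _ i).symm ≪≫
        (DerivedCategory.homologyFunctor _ i).mapIso (t ≪≫ (DCoh.LTensorCx F').mapIso eE))
  choose V n hxV hn using hloc
  obtain ⟨s, hs⟩ := isCompact_univ.elim_finite_subcover (fun x => (V x : Set X)) (fun x => (V x).2)
    (fun x _ => Set.mem_iUnion.2 ⟨x, hxV x⟩)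
  obtain ⟨N, hN⟩ := (s.image n).bddBelow
  refine ⟨N, (DerivedCategory.isGE_iff _ _).2 fun i hi => DQCoh.isZero_of_restrict_cover _ (fun x : s => V x)
    (fun x => ?_) fun x => hn x i (lt_of_lt_of_le hi (hN (Finset.mem_coe.2 (Finset.mem_image.2 ⟨x, x.2, rfl⟩))))⟩
  obtain ⟨y, hy, hxy⟩ := Set.mem_iUnion₂.1 (hs (Set.mem_univ x))
  exact ⟨⟨y, hy⟩, hxy⟩

theorem support_subset (F : CochainComplex X.Modules ℤ) [DCoh.HasLTensorCx F] (Z : Set X) (hZ : IsClosed Z)
    (hF : ∀ j, CohB1.support (DCoh.HD (DerivedCategory.Q.obj F) j) ⊆ Z) (E : DCoh.D X) (i : ℤ) :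
    CohB1.support (DCoh.HD ((DCoh.LTensorCx F).obj E) i) ⊆ Z := fun x hx => by
  by_contra hxZ
  let V : X.Opens := ⟨Zᶜ, hZ.isOpen_compl⟩
  haveI := PullPerf.preservesFiniteLimits_restrict V.ι
  have h0 : IsZero ((rd V.ι).obj (DerivedCategory.Q.obj F)) :=
    SuppOpen.isZero_restrictD V _ fun j y hy h => hy (hF j h)
  obtain ⟨F', hF', ⟨eF⟩, h⟩ := Dual22Lib.TenLocal.nonempty_rd_LTensor V.ι F
  haveI := hF'
  obtain ⟨t⟩ := h E
  have h1 := (isZero_LTensorCx_right F' (h0.of_iso eF) ((rd V.ι).obj E)).of_iso t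
  have h2 := ((DerivedCategory.homologyFunctor _ i).map_isZero h1).of_iso
    (SuppOpen.hdMapIso (Scheme.Modules.restrictFunctor V.ι) _ i).symm
  exact hx (SuppOpen.subsingleton_stalk_of_restrict V.ι _ ⟨x, hxZ⟩
    (SuppOpen.subsingleton_of_isZero_stalkFunctor _ _ ((DerSch.stalkFunctor _ _).map_isZero h2)))

theorem isProperOver_support {S : Scheme.{u}} [IsNoetherian X] (f : X ⟶ S) [LocallyOfFiniteType f]
    (F : CochainComplex X.Modules ℤ) [DCoh.HasLTensorCx F] (a b : ℤ) [(DerivedCategory.Q.obj F).IsGE a]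
    [(DerivedCategory.Q.obj F).IsLE b]
    (hF : ∀ j, ClSub.IsProperOver f (CohB1.support (DCoh.HD (DerivedCategory.Q.obj F) j))) (E : DCoh.D X) (i : ℤ)
    (hi : Coh.IsCoh (DCoh.HD ((DCoh.LTensorCx F).obj E) i)) :
    ClSub.IsProperOver f (CohB1.support (DCoh.HD ((DCoh.LTensorCx F).obj E) i)) := by
  let Z : Fin (b - a + 1).toNat → Set X := fun m => CohB1.support (DCoh.HD (DerivedCategory.Q.obj F) (a + m.1))
  have hp := Coherent.isProperOver_iUnion f Z fun m => hF _
  refine Et18.IsProperOver.of_subset hp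
    (Coherent.isClosed_support _ (Coherent.locallyFinGen_of_isFT _ hi.2))
    (support_subset F _ hp.1 (fun j x hx => ?_) E i)
  rcases lt_or_ge j a with hj | hj
  · exact absurd (SuppOpen.subsingleton_of_isZero_stalkFunctor _ x
      ((DerSch.stalkFunctor X x).map_isZero (DerivedCategory.isZero_of_isGE _ a j hj))) hx
  rcases lt_or_ge b j with hj' | hj'
  · exact absurd (SuppOpen.subsingleton_of_isZero_stalkFunctor _ x
      ((DerSch.stalkFunctor X x).map_isZero (DerivedCategory.isZero_of_isLE _ b j hj'))) hx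
  refine Set.mem_iUnion.2 ⟨⟨(j - a).toNat, by omega⟩, ?_⟩
  show x ∈ CohB1.support (DCoh.HD (DerivedCategory.Q.obj F) (a + ((j - a).toNat : ℕ)))
  rwa [show a + ((j - a).toNat : ℤ) = j by omega]

end Groth.Agent.FM14
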