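import Groth.Agent.Dual22Lib.LTensorPsc
import Groth.Agent.Dual22Lib.RelTorDim
import Groth.Agent.DCat.LTensorModule
import Groth.Agent.DCat.TorSheaf
import Groth.Agent.DCat.PullPerf
import Groth.Agent.DCat.SuppOpen
import Groth.Agent.Coherent.FiniteType
import Groth.Agent.Et18.ProperOver
import Groth.Agent.S1039

/-!
# `- ⊗^L K` after derived inverse image, for `K` flat over the target
-/

set_option autoImplicit false
set_option backward.isDefEq.respectTransparency false
set_option backward.defeqAttrib.useBackward true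
set_option linter.style.haveILetI false
set_option synthInstance.maxHeartbeats 100000

universe u

open CategoryTheory CategoryTheory.Limits AlgebraicGeometry MonoidalCategory HomologicalComplex
open Groth.Agent.DCat Groth.Agent.ModStalk

attribute [local instance] HasDerivedCategory.standard

namespace Groth.Agent.FM14

/-- `N ↦ (B ⊗_A N) ⊗_B G`. -/
noncomputable abbrev bcTensor {A B : Type u} [CommRing A] [CommRing B] (φ : A →+* B) (G : ModuleCat.{u} B) :
    ModuleCat.{u} A ⥤ ModuleCat.{u} B :=
  ModuleCat.extendScalars φ ⋙ tensorRight G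

theorem preservesMono_bcTensor {A B : Type u} [CommRing A] [CommRing B] (φ : A →+* B) (G : ModuleCat.{u} B)
    (hG : Module.Flat A ((ModuleCat.restrictScalars.{u} φ).obj G)) :
    (bcTensor φ G).PreservesMonomorphisms where
  preserves {N N'} f _ := by
    letI := φ.toAlgebra
    letI : Module A G := Module.compHom G φ
    haveI : IsScalarTower A B G := IsScalarTower.of_algebraMap_smul fun _ _ => rfl
    haveI : Module.Flat A G := hG
    rw [ModuleCat.mono_iff_injective]
    let θ : ∀ P : ModuleCat.{u} A, TensorProduct B (TensorProduct A B P) G ≃ₗ[B] TensorProduct A G P := fun P =>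
      (TensorProduct.comm B _ _) ≪≫ₗ TensorProduct.AlgebraTensorModule.cancelBaseChange A B B G P
    have hinj : Function.Injective (f.hom.lTensor G) :=
      Module.Flat.lTensor_preserves_injective_linearMap _ ((ModuleCat.mono_iff_injective f).1 ‹_›)
    let F : TensorProduct B (TensorProduct A B N) G →ₗ[B] TensorProduct B (TensorProduct A B N') G :=
      LinearMap.rTensor G (TensorProduct.AlgebraTensorModule.lTensor B B f.hom)
    have hcomm : ∀ z, θ N' (F z) = f.hom.lTensor G (θ N z) := by
      intro z
      induction z using TensorProduct.induction_on with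
      | zero => simp
      | tmul y g =>
        induction y using TensorProduct.induction_on with
        | zero => simp
        | tmul b n => simp [θ, F]
        | add a b ha hb =>
          simp only [TensorProduct.add_tmul, map_add, ha, hb]
      | add a b ha hb => simp only [map_add, ha, hb]
    have hF : Function.Injective F := fun a b h =>
      (θ N).injective (hinj ((hcomm a).symm.trans ((congrArg (θ N') h).trans (hcomm b))))
    exact hF

theorem exactAt_map_bcTensor {A B : Type u} [CommRing A] [CommRing B] (φ : A →+* B) (G : ModuleCat.{u} B)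
    (hG : Module.Flat A ((ModuleCat.restrictScalars.{u} φ).obj G)) (K : CochainComplex (ModuleCat.{u} A) ℤ) (i : ℤ)
    (hK : K.ExactAt i) : (((bcTensor φ G).mapHomologicalComplex (ComplexShape.up ℤ)).obj K).ExactAt i := by
  haveI := preservesMono_bcTensor φ G hG
  haveI : PreservesFiniteColimits (ModuleCat.extendScalars.{u, u, u} φ) :=
    haveI := (ModuleCat.extendRestrictScalarsAdj.{u, u, u} φ).leftAdjoint_preservesColimits
    inferInstance
  haveI : PreservesFiniteColimits (bcTensor φ G) := comp_preservesFiniteColimits _ _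
  haveI : PreservesFiniteLimits (bcTensor φ G) := by
    have e := (Functor.preservesFiniteLimits_tfae (bcTensor φ G)).out 0 3
    refine e.1 fun S hS => ⟨?_, ?_⟩
    · have e' := (Functor.preservesFiniteColimits_tfae (bcTensor φ G)).out 3 0
      exact (e'.1 inferInstance S hS).1
    · haveI := hS.mono_f
      infer_instance
  exact hK.map (bcTensor φ G)

variable {X P : Scheme.{u}} (p : P ⟶ X)

theorem isCohD_amp_of_flat [IsNoetherian X] [IsLocallyNoetherian P] [DCoh.HasLpull p] (K : P.Modules)
    (hK : Coh.IsCoh K) (hflat : FlatMod.IsFlatOver p K) [DCoh.HasLTensorMod K] (M : DCoh.D X)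
    (hM : DCoh.IsCohD M) (m n : ℤ) [M.IsGE m] [M.IsLE n] :
    DCoh.IsCohD ((DCoh.LTensorMod K).obj ((DCoh.Lpull p).obj M)) ∧
      ((DCoh.LTensorMod K).obj ((DCoh.Lpull p).obj M)).IsGE m ∧
      ((DCoh.LTensorMod K).obj ((DCoh.Lpull p).obj M)).IsLE n ∧
      ∀ i, CohB1.support (DCoh.HD ((DCoh.LTensorMod K).obj ((DCoh.Lpull p).obj M)) i) ⊆ CohB1.support K := by
  classical
  obtain ⟨N, hN, ⟨eN⟩⟩ := PullPerf.exists_kflat_rep M
  have hN' : IsKFlatFor (shT P) (((Scheme.Modules.pullback p).mapHomologicalComplex (ComplexShape.up ℤ)).obj N) :=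
    PullTot.isKFlatFor_pullback p hN
  let N' := ((Scheme.Modules.pullback p).mapHomologicalComplex (ComplexShape.up ℤ)).obj N
  let F := ((DCoh.tensorRightMod K).mapHomologicalComplex (ComplexShape.up ℤ)).obj N'
  let eF : DCoh.toD P F ≅ (DCoh.LTensorMod K).obj ((DCoh.Lpull p).obj M) :=
    (ltensorModIso K hN').symm ≪≫ (DCoh.LTensorMod K).mapIso
      ((PullPerf.lpullIso p hN).symm ≪≫ (DCoh.Lpull p).mapIso eN)
  have hz : ∀ z, z ∉ CohB1.support K → ∀ i, IsZero ((DerSch.stalkFunctor P z).obj (F.X i)) := fun z hz i => by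
    refine IsZero.of_iso ?_ ((stalkTensorRightModIso K z).app (N'.X i))
    haveI : Subsingleton ((DerSch.stalkFunctor P z).obj K) := not_not.1 hz
    exact Functor.map_isZero (MonoidalCategory.tensorLeft ((DerSch.stalkFunctor P z).obj (N'.X i)))
      (ModuleCat.isZero_of_subsingleton _)
  have hex : ∀ i, (i < m ∨ n < i) → IsZero (DCoh.HD (DCoh.toD P F) i) := fun i hi => by
    rw [isZero_HD_toD_iff, ← exactAt_iff_stalks]
    intro z
    have hNi : N.ExactAt i := (isZero_HD_toD_iff N i).1 (IsZero.of_iso
      (hi.elim (fun h => DerivedCategory.isZero_of_isGE M m i h) fun h => DerivedCategory.isZero_of_isLE M n i h)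
      ((DerivedCategory.homologyFunctor _ i).mapIso eN))
    have h1 := exactAt_map_bcTensor (p.stalkMap z).hom ((DerSch.stalkFunctor P z).obj K) (hflat z)
      ((stalkK (p.base z)).obj N) i (exactAt_iff_stalks.2 hNi (p.base z))
    let e : ((bcTensor (p.stalkMap z).hom ((DerSch.stalkFunctor P z).obj K)).mapHomologicalComplex (ComplexShape.up ℤ)).obj
        ((stalkK (p.base z)).obj N) ≅ (stalkK z).obj F :=
      Hom.isoOfComponents
        (fun j => (tensorRight ((DerSch.stalkFunctor P z).obj K)).mapIso ((pullbackStalkIso p z).app (N.X j)).symm ≪≫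
          ((stalkTensorRightModIso K z).app (N'.X j)).symm)
        (fun j k _ => ((Functor.isoWhiskerRight (pullbackStalkIso p z).symm
            (tensorRight ((DerSch.stalkFunctor P z).obj K)) ≪≫
          Functor.isoWhiskerLeft (Scheme.Modules.pullback p) (stalkTensorRightModIso K z).symm).hom.naturality (N.d j k)).symm)
    exact h1.of_iso e
  haveI hge : (DCoh.toD P F).IsGE m := (DerivedCategory.isGE_iff _ _).2 fun i hi => hex i (Or.inl hi)
  haveI hle : (DCoh.toD P F).IsLE n := (DerivedCategory.isLE_iff _ _).2 fun i hi => hex i (Or.inr hi)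
  refine ⟨?_, DerivedCategory.TStructure.t.isGE_of_iso eF m, DerivedCategory.TStructure.t.isLE_of_iso eF n,
    fun i z hz' => Classical.byContradiction fun hzK => hz' (SuppOpen.subsingleton_of_isZero_stalkFunctor _ z
      (IsZero.of_iso ?_ ((DerSch.stalkFunctor P z).mapIso ((DerivedCategory.homologyFunctor _ i).mapIso eF.symm ≪≫
        (DerivedCategory.homologyFunctorFactors P.Modules i).app F) ≪≫
        ((F.sc i).mapHomologyIso (DerSch.stalkFunctor P z)).symm)))⟩
  swap
  · exact (exactAt_iff_isZero_homology ((stalkK z).obj F) i).1 (HomologicalComplex.ExactAt.of_isZero (hz z hzK i))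
  -- coherence
  obtain ⟨Q, q, hQk, -, hq, hQ⟩ := exists_kflat_sheaf_le
    ((HomologicalComplex.single P.Modules (ComplexShape.up ℤ) 0).obj K) 0
    (fun n hn => HomologicalComplex.isZero_single_obj_X _ _ _ _ (by omega))
  haveI := hq
  haveI := LTensorSheaf.hasLTensorCx Q
  have hQc : DCoh.IsCohD (DerivedCategory.Q.obj Q) := fun j => by
    refine Coherent.isCoh_iso ((DerivedCategory.homologyFunctor _ j).mapIso
      (asIso (DerivedCategory.Q.map q) ≪≫ ((DerivedCategory.singleFunctorIsoCompQ P.Modules 0).app K).symm)).symm ?_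
    by_cases hj : j = 0
    · subst hj
      exact Coherent.isCoh_iso ((DerivedCategory.singleFunctorCompHomologyFunctorIso P.Modules 0).app K).symm hK
    · refine (DQCoh.coh_ops P).1 _ ?_
      rcases lt_or_gt_of_ne hj with hj | hj
      · exact DerivedCategory.isZero_of_isGE _ 0 j hj
      · exact DerivedCategory.isZero_of_isLE _ 0 j hj
  obtain ⟨T⟩ := Dual22Lib.RelTorDim.nonempty_LTensorMod_iso K hQk q ((DCoh.Lpull p).obj M)
  have hpsc : ∀ k, DCoh.IsPseudoCoherentD k ((DCoh.Lpull p).obj M) := fun k =>
    PullPerf.isPseudoCoherentD_Lpull p k M ((S1039.result X M (fun i => (hM i).1) k).2 ⟨fun i _ => hM i, n, ‹M.IsLE n›⟩)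
  exact fun i => Coherent.isCoh_iso ((DerivedCategory.homologyFunctor _ i).mapIso T.symm)
      (DQCoh.isCohD_LTensor_of_psc Q hQk 0 hQ hQc _ hpsc i)

end Groth.Agent.FM14
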